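import Cfsg.Agent.H248.Reg.Free

/-!
# Subgroups of odd index of `PSL(2, q)`, `q` even (S4919, EVEN, helper248)
-/

set_option autoImplicit false

namespace Cfsg.Agent.H248.Reg

open Cfsg Cfsg.Agent.Characters.Core Cfsg.Agent.H681.DegBasic Cfsg.Agent.H525.L2 Cfsg.Agent.H595.Count
  Cfsg.Agent.H595.Central Cfsg.Agent.H595.Triple Matrix Cfsg.Agent.H670.RankOne Cfsg.Agent.H670.SL2

universe u v

section

variable {F : Type v} [Field F] [Fintype F]

theorem two_eq_zero (heven : Even (Fintype.card F)) : (2 : F) = 0 := by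
  have hF : ringChar F = 2 := FiniteField.even_card_iff_char_two.2 (Nat.even_iff.1 heven)
  have hchar : CharP F 2 := ringChar.of_eq hF
  exact CharTwo.two_eq_zero

omit [Fintype F] in
theorem conj_x {b : SpecialLinearGroup (Fin 2) F} (hb : b ∈ (data F).B) :
    ∃ u : Fˣ, (u = 1 → b ∈ (data F).U) ∧ ∀ s, b * x s * b⁻¹ = x ((u : F) ^ 2 * s) := by
  obtain ⟨r, t, ⟨u, rfl⟩, rfl⟩ := hb
  refine ⟨u, ?_, ?_⟩
  · rintro rfl
    rw [map_one, mul_one]
    exact (data F).mem_U.2 ⟨r, rfl⟩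
  · intro s
    rw [data_X]
    calc x r * tor u * x s * (x r * tor u)⁻¹ = x r * (tor u * x s) * (tor u)⁻¹ * (x r)⁻¹ := by group
      _ = x r * x ((u : F) ^ 2 * s) * (x r)⁻¹ := by rw [tor_mul_x]; group
      _ = x ((u : F) ^ 2 * s) * x r * (x r)⁻¹ := by
        rw [show x r * x ((u : F) ^ 2 * s) = x ((u : F) ^ 2 * s) * x r from (data F).X_comm _ _]
      _ = _ := by rw [mul_inv_cancel_right]

/-- Subgroups of odd index contain the unipotent group and lie in the Borel subgroup, up to conjugation. -/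
theorem exists_conj (heven : Even (Fintype.card F))
    (H : Subgroup (SpecialLinearGroup (Fin 2) F)) (hodd : ¬ 2 ∣ H.index) (hne : H ≠ ⊤) :
    ∃ g : SpecialLinearGroup (Fin 2) F, (∀ s, x s ∈ H.comap (MulAut.conj g⁻¹).toMonoidHom) ∧
      H.comap (MulAut.conj g⁻¹).toMonoidHom ≤ (data F).B := by
  classical
  obtain ⟨p, hchar⟩ := CharP.exists F
  obtain ⟨n, hp, hqn⟩ := FiniteField.card F p
  have hp2 : p = 2 := by
    have h1 : 2 ∣ p ^ (n : ℕ) := by rw [← hqn, ← even_iff_two_dvd]; exact heven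
    exact ((Nat.prime_dvd_prime_iff_eq Nat.prime_two hp).1 (Nat.prime_two.dvd_of_dvd_pow h1)).symm
  subst hp2
  have : Fact (Nat.Prime 2) := ⟨hp⟩
  let _ : MulAction (Multiplicative F) (SpecialLinearGroup (Fin 2) F ⧸ H) :=
    MulAction.compHom _ ((data F).xh)
  obtain ⟨gH, hg⟩ := (xh_pgroup hqn).nonempty_fixed_point_of_prime_not_dvd_card
    (SpecialLinearGroup (Fin 2) F ⧸ H) hodd
  obtain ⟨g, rfl⟩ := QuotientGroup.mk_surjective gH
  have hx : ∀ s, x s ∈ H.comap (MulAut.conj g⁻¹).toMonoidHom := by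
    intro s
    show g⁻¹ * x s * g⁻¹⁻¹ ∈ H
    rw [inv_inv]
    have h1 := hg (Multiplicative.ofAdd s)
    have h2 : ((x s * g : SpecialLinearGroup (Fin 2) F) : SpecialLinearGroup (Fin 2) F ⧸ H) = g := h1
    have h3 := QuotientGroup.eq.1 h2.symm
    rwa [← mul_assoc] at h3
  have hidx : (H.comap (MulAut.conj g⁻¹).toMonoidHom).index = H.index :=
    Subgroup.index_comap_of_surjective H (MulAut.conj g⁻¹).surjective
  refine ⟨g, hx, le_B_of_x _ hx ?_⟩
  intro h
  rw [h, Subgroup.index_top, eq_comm, Subgroup.index_eq_one] at hidx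
  exact hne hidx

/-- **The Borel case.** -/
theorem borel_case (heven : Even (Fintype.card F)) {Q : Type u} {S : Type u} [Group Q]
    [Finite Q] [Group S] {π : Q →* S} (hc : π.ker ≤ Subgroup.center Q) {l : π.ker →* ℂˣ}
    (hl : Function.Injective l) (φ : Q →* SpecialLinearGroup (Fin 2) F) (hφ : φ.ker = π.ker)
    (hx : ∀ s, x s ∈ φ.range) (hB : φ.range ≤ (data F).B) {β : Q → ℂ} (hβ : IsIrrCharacter Q β)
    (ho : Over π l β) {d : ℕ} (hd : β 1 = d) (hpd : ¬ 2 ∣ d) :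
    ∃ γ : IrrCharacter Q, Over π l (γ : Q → ℂ) ∧
      charDegree (γ : Q → ℂ) * Fintype.card F = Nat.card φ.range := by
  classical
  have h2 := two_eq_zero heven
  let V : Subgroup Q := (data F).U.comap φ
  have hmV : ∀ a, a ∈ V ↔ ∃ s, φ a = x s := fun a => (data F).mem_U
  have hφ1 : ∀ a, φ a = 1 ↔ a ∈ π.ker := fun a => by rw [← hφ, MonoidHom.mem_ker]
  have hZV : π.ker ≤ V := by
    intro a ha
    rw [← hφ1] at ha
    exact (hmV a).2 ⟨0, ha.trans (data F).X_zero.symm⟩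
  have hVn : V.Normal := by
    constructor
    intro v hv a
    obtain ⟨s, hs⟩ := (hmV v).1 hv
    obtain ⟨u, -, hu⟩ := conj_x (hB ⟨a, rfl⟩)
    exact (hmV _).2 ⟨_, by rw [map_mul, map_mul, map_inv, hs, hu]⟩
  -- squares of elements of `V`
  have hsq : ∀ v ∈ V, v * v ∈ π.ker := by
    intro v hv
    obtain ⟨s, hs⟩ := (hmV v).1 hv
    rw [← hφ1, map_mul, hs]
    have h3 : x s * x s = x (s + s) := ((data F).X_add s s).symm
    rw [h3, ← two_mul, h2, zero_mul]
    exact (data F).X_zero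
  have hV : ∀ a ∈ V, ∀ b ∈ V, a * b = b * a := by
    intro a ha b hb
    obtain ⟨r, hr⟩ := (hmV a).1 ha
    obtain ⟨s, hs⟩ := (hmV b).1 hb
    have hab : a * b * a⁻¹ * b⁻¹ ∈ π.ker := by
      rw [← hφ1, map_mul, map_mul, map_mul, map_inv, map_inv, hr, hs,
        show x r * x s = x s * x r from (data F).X_comm _ _, mul_inv_cancel_right, mul_inv_cancel]
    have h3 := pow_commutator hc hl hβ ho hd a b hab
    have h4 : (a * b * a⁻¹ * b⁻¹) ^ 2 = 1 := by
      -- `[a, b] ^ 2 = [a ^ 2, b]`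
      have h5 := Subgroup.mem_center_iff.1 (hc (hsq a ha)) b
      have h6 := Subgroup.mem_center_iff.1 (hc hab) a
      calc (a * b * a⁻¹ * b⁻¹) ^ 2 = (a * b * a⁻¹ * b⁻¹) * (a * b * a⁻¹ * b⁻¹) := pow_two _
        _ = a⁻¹ * (a * (a * b * a⁻¹ * b⁻¹)) * (a * b * a⁻¹ * b⁻¹) := by group
        _ = a⁻¹ * ((a * b * a⁻¹ * b⁻¹) * a) * (a * b * a⁻¹ * b⁻¹) := by rw [h6]
        _ = a⁻¹ * a * b * a⁻¹ * b⁻¹ * (a * a * b) * a⁻¹ * b⁻¹ := by group
        _ = a⁻¹ * a * b * a⁻¹ * b⁻¹ * (b * (a * a)) * a⁻¹ * b⁻¹ := by rw [h5]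
        _ = 1 := by group
    have h5 : orderOf (a * b * a⁻¹ * b⁻¹) ∣ Nat.gcd 2 d :=
      Nat.dvd_gcd (orderOf_dvd_of_pow_eq_one h4) (orderOf_dvd_of_pow_eq_one h3)
    rw [(Nat.Prime.coprime_iff_not_dvd Nat.prime_two).2 hpd, Nat.dvd_one, orderOf_eq_one_iff] at h5
    rw [mul_inv_eq_one, mul_inv_eq_iff_eq_mul] at h5
    exact h5
  have hfree : ∀ a, a ∉ V → ∀ v ∈ V, a * v * a⁻¹ * v⁻¹ ∈ π.ker → v ∈ π.ker := by
    intro a ha v hv h3
    obtain ⟨s, hs⟩ := (hmV v).1 hv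
    obtain ⟨u, hu1, hu⟩ := conj_x (hB ⟨a, rfl⟩)
    rw [← hφ1, map_mul, map_mul, map_mul, map_inv, map_inv, mul_inv_eq_one, hs, hu] at h3
    have h4 := congrArg e01 h3
    rw [x01, x01] at h4
    have h5 : u ≠ 1 := fun h => ha (hu1 h)
    have h6 : s = 0 := by
      by_contra hs0
      apply h5
      have h7 : (u : F) ^ 2 = 1 := mul_right_cancel₀ hs0 (by rw [h4, one_mul])
      have h8 : ((u : F) - 1) ^ 2 = 0 := by linear_combination h7 + (1 - (u : F)) * h2
      have h9 := pow_eq_zero_iff two_ne_zero |>.1 h8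
      exact Units.ext (sub_eq_zero.1 h9)
    rw [← hφ1, hs, h6]
    exact (data F).X_zero
  -- orders
  have hrel : π.ker.relIndex V = Fintype.card F := by
    have h3 : π.ker.relIndex V = Nat.card (V.map φ) := by
      rw [← hφ, Subgroup.relIndex_ker]
    have h4 : V.map φ = (data F).U := by
      apply le_antisymm
      · exact Subgroup.map_comap_le _ _
      · intro y hy
        obtain ⟨s, rfl⟩ := (data F).mem_U.1 hy
        obtain ⟨a, ha⟩ := hx s
        exact ⟨a, (hmV a).2 ⟨s, ha⟩, ha⟩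
    rw [h3, h4, ← Nat.card_congr (data F).equivU, Nat.card_eq_fintype_card]
  have hidx : V.index * Fintype.card F = Nat.card φ.range := by
    rw [← Subgroup.index_ker, hφ, ← hrel, mul_comm, Subgroup.relIndex_mul_index hZV]
  have hle : V.index ≤ π.ker.relIndex V := by
    rw [hrel]
    have h3 := Subgroup.card_dvd_of_le hB
    rw [(data F).card_B, card_T, ← hidx, mul_comm] at h3
    have h4 := Nat.dvd_of_mul_dvd_mul_left Fintype.card_pos h3
    have h5 : 0 < Fintype.card F - 1 := by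
      have := Fintype.one_lt_card (α := F)
      omega
    exact (Nat.le_of_dvd h5 h4).trans (Nat.sub_le _ _)
  obtain ⟨γ, h3, h4⟩ := exists_irr_index l hc V hZV hV hfree hle
  exact ⟨γ, h3, by rw [h4, hidx]⟩

end

end Cfsg.Agent.H248.Reg
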