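import Cfsg.Agent.H671.Sep
import Cfsg.Agent.S0799
import Cfsg.Agent.S0265

/-!
# Index of the subgroups of `PSL(2, q)`, `q ≥ 16` even (S4919, EVEN, helper248)

`index_even` : a subgroup of even index has index divisible by `2 (q + 1)`, or by `2 (q - 1)`, or by `2 a b` for primes
`a ∣ q - 1`, `b ∣ q + 1`.
-/

set_option autoImplicit false

namespace Cfsg.Agent.H248.Reg

open Matrix Cfsg.Agent.H525.L2

universe u v

/-- The three possibilities. -/
def Alt (q n : ℕ) : Prop :=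
  2 * (q + 1) ∣ n ∨ 2 * (q - 1) ∣ n ∨ ∃ a b : ℕ, a.Prime ∧ b.Prime ∧ a ∣ q - 1 ∧ b ∣ q + 1 ∧ 2 * a * b ∣ n

theorem Alt.mono {q n m : ℕ} (h : Alt q n) (hm : n ∣ m) : Alt q m := by
  rcases h with h | h | ⟨a, b, h1, h2, h3, h4, h5⟩
  · exact Or.inl (h.trans hm)
  · exact Or.inr (Or.inl (h.trans hm))
  · exact Or.inr (Or.inr ⟨a, b, h1, h2, h3, h4, h5.trans hm⟩)

section Arith

variable {q n h : ℕ} (h16 : 16 ≤ q) (hn : h * n = (q + 1) * (q * (q - 1)))

include h16 hn in
theorem ar1 (h4 : 4 ∣ q) (hd : h ∣ 2 * (q + 1)) : 2 * (q - 1) ∣ n := by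
  obtain ⟨w, hw⟩ := hd
  obtain ⟨t, rfl⟩ := h4
  have hpos : 0 < h := by
    rcases Nat.eq_zero_or_pos h with rfl | h0
    · rw [zero_mul] at hw; omega
    · exact h0
  obtain ⟨r, hr⟩ : ∃ r, 4 * t = r + 1 := ⟨4 * t - 1, by omega⟩
  have h5 : h * (2 * n) = h * (w * (4 * t) * (4 * t - 1)) := by
    calc h * (2 * n) = 2 * (h * n) := by ring
      _ = 2 * (4 * t + 1) * ((4 * t) * (4 * t - 1)) := by rw [hn]; ring
      _ = h * w * ((4 * t) * (4 * t - 1)) := by rw [hw]
      _ = _ := by ring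
  have h6 := Nat.eq_of_mul_eq_mul_left hpos h5
  refine ⟨w * t, ?_⟩
  have h7 : 2 * n = 2 * (2 * (4 * t - 1) * (w * t)) := by rw [h6]; ring
  omega

include h16 hn in
theorem ar2 (h4 : 4 ∣ q) (hd : h ∣ 2 * (q - 1)) : 2 * (q + 1) ∣ n := by
  obtain ⟨w, hw⟩ := hd
  obtain ⟨t, rfl⟩ := h4
  have hpos : 0 < h := by
    rcases Nat.eq_zero_or_pos h with rfl | h0
    · rw [zero_mul] at hw; omega
    · exact h0
  have h5 : h * (2 * n) = h * (w * (4 * t) * (4 * t + 1)) := by
    calc h * (2 * n) = 2 * (h * n) := by ring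
      _ = (2 * (4 * t - 1)) * ((4 * t) * (4 * t + 1)) := by rw [hn]; ring
      _ = h * w * ((4 * t) * (4 * t + 1)) := by rw [hw]
      _ = _ := by ring
  have h6 := Nat.eq_of_mul_eq_mul_left hpos h5
  refine ⟨w * t, ?_⟩
  have h7 : 2 * n = 2 * (2 * (4 * t + 1) * (w * t)) := by rw [h6]; ring
  omega

include h16 hn in
theorem ar3 (heven : Even q) (hd : h ∣ q * (q - 1)) (h2 : 2 ∣ n) : 2 * (q + 1) ∣ n := by
  obtain ⟨w, hw⟩ := hd
  have hq : 0 < q * (q - 1) := Nat.mul_pos (by omega) (by omega)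
  have hpos : 0 < h := by
    rcases Nat.eq_zero_or_pos h with rfl | h0
    · rw [zero_mul] at hw; omega
    · exact h0
  have h5 : h * n = h * (w * (q + 1)) := by
    rw [hn, hw]; ring
  have h6 := Nat.eq_of_mul_eq_mul_left hpos h5
  rw [h6] at h2 ⊢
  have h7 : Nat.Coprime 2 (q + 1) := by
    rw [Nat.coprime_two_left]
    exact heven.add_one
  exact Nat.mul_dvd_mul (h7.dvd_of_dvd_mul_right h2) dvd_rfl

end Arith

section Arith2

variable {q n r c : ℕ} (h16 : 16 ≤ q) (hr : 2 ∣ r)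

include h16 hr in
theorem ar5 (hn : c * n = r * ((q - 1) * (q + 1))) (hc : c ∣ q - 1) : 2 * (q + 1) ∣ n := by
  obtain ⟨w, hw⟩ := hc
  have hpos : 0 < c := by
    rcases Nat.eq_zero_or_pos c with rfl | h0
    · rw [zero_mul] at hw; omega
    · exact h0
  have h5 : c * n = c * (r * w * (q + 1)) := by
    rw [hn, hw]; ring
  rw [Nat.eq_of_mul_eq_mul_left hpos h5]
  exact Nat.mul_dvd_mul (hr.mul_right _) dvd_rfl

include h16 hr in
theorem ar6 (hn : c * n = r * ((q - 1) * (q + 1))) (hc : c ∣ q + 1) : 2 * (q - 1) ∣ n := by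
  obtain ⟨w, hw⟩ := hc
  have hpos : 0 < c := by
    rcases Nat.eq_zero_or_pos c with rfl | h0
    · rw [zero_mul] at hw; omega
    · exact h0
  have h5 : c * n = c * (r * w * (q - 1)) := by
    rw [hn, hw]; ring
  rw [Nat.eq_of_mul_eq_mul_left hpos h5]
  exact Nat.mul_dvd_mul (hr.mul_right _) dvd_rfl

include h16 hr in
theorem ar4 {c' : ℕ} (hn : c * c' * n = r * ((q - 1) * (q + 1))) (hc : c ∣ q - 1) (hc' : c' ∣ q + 1)
    (h1 : c ≠ q - 1) (h2 : c' ≠ q + 1) : Alt q n := by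
  obtain ⟨w, hw⟩ := hc
  obtain ⟨w', hw'⟩ := hc'
  have hpos : 0 < c := by
    rcases Nat.eq_zero_or_pos c with rfl | h0
    · rw [zero_mul] at hw; omega
    · exact h0
  have hpos' : 0 < c' := by
    rcases Nat.eq_zero_or_pos c' with rfl | h0
    · rw [zero_mul] at hw'; omega
    · exact h0
  have h5 : c * c' * n = c * c' * (r * w * w') := by
    rw [hn, hw, hw']; ring
  have h6 := Nat.eq_of_mul_eq_mul_left (Nat.mul_pos hpos hpos') h5
  have hw1 : w ≠ 1 := by rintro rfl; rw [mul_one] at hw; exact h1 hw.symm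
  have hw1' : w' ≠ 1 := by rintro rfl; rw [mul_one] at hw'; exact h2 hw'.symm
  refine Or.inr (Or.inr ⟨w.minFac, w'.minFac, Nat.minFac_prime hw1, Nat.minFac_prime hw1', ?_, ?_, ?_⟩)
  · rw [hw]; exact (Nat.minFac_dvd w).mul_left _
  · rw [hw']; exact (Nat.minFac_dvd w').mul_left _
  · rw [h6]
    exact Nat.mul_dvd_mul (Nat.mul_dvd_mul hr (Nat.minFac_dvd w)) (Nat.minFac_dvd w')

end Arith2

/-- Powers of two at least 16. -/
theorem exists_sixteen {q f : ℕ} (hq : q = 2 ^ f) (h16 : 16 ≤ q) : ∃ t, q = 16 * 2 ^ t := by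
  have hf : 4 ≤ f := by
    by_contra h
    have h1 : f ≤ 3 := by omega
    have h2 : 2 ^ f ≤ 2 ^ 3 := Nat.pow_le_pow_right (by norm_num) h1
    omega
  refine ⟨f - 4, ?_⟩
  rw [hq, show (16 : ℕ) = 2 ^ 4 by norm_num, ← pow_add]
  congr 1
  omega

theorem ar_small {q t n h : ℕ} (hq : q = 16 * 2 ^ t) (hn : h * n = (q + 1) * (q * (q - 1)))
    (hh : h = 12 ∨ h = 24 ∨ h = 60) : Alt q n := by
  have h16 : 16 ≤ q := by
    have : 1 ≤ 2 ^ t := Nat.one_le_two_pow
    omega
  have hcop : ∀ p : ℕ, p.Prime → p ≠ 2 → ∀ s : ℕ, ¬ p ∣ 2 ^ s := by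
    intro p hp hp2 s h
    exact hp2 ((Nat.prime_dvd_prime_iff_eq hp Nat.prime_two).1 (hp.dvd_of_dvd_pow h))
  -- the general step
  have key3 : ∀ r s : ℕ, r = 2 ^ s → 2 ∣ r → 3 * n = r * ((q - 1) * (q + 1)) → Alt q n := by
    intro r s hrs hr h3
    have h4 : 3 ∣ r * ((q - 1) * (q + 1)) := ⟨n, h3.symm⟩
    rcases (Nat.Prime.dvd_mul Nat.prime_three).1 h4 with h5 | h5
    · rw [hrs] at h5
      exact absurd h5 (hcop 3 Nat.prime_three (by norm_num) s)
    · rcases (Nat.Prime.dvd_mul Nat.prime_three).1 h5 with h6 | h6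
      · exact Or.inl (ar5 h16 hr h3 h6)
      · exact Or.inr (Or.inl (ar6 h16 hr h3 h6))
  rcases hh with rfl | rfl | rfl
  · refine key3 (4 * 2 ^ t) (t + 2) (by rw [pow_add]; ring) (Dvd.intro (2 * 2 ^ t) (by ring)) ?_
    have h3 : 4 * (3 * n) = 4 * (4 * 2 ^ t * ((q - 1) * (q + 1))) := by
      calc 4 * (3 * n) = 12 * n := by ring
        _ = (q + 1) * (q * (q - 1)) := hn
        _ = (q + 1) * ((16 * 2 ^ t) * (q - 1)) := by rw [← hq]
        _ = _ := by ring
    omega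
  · refine key3 (2 * 2 ^ t) (t + 1) (by rw [pow_add]; ring) (Dvd.intro (2 ^ t) (by ring)) ?_
    have h3 : 8 * (3 * n) = 8 * (2 * 2 ^ t * ((q - 1) * (q + 1))) := by
      calc 8 * (3 * n) = 24 * n := by ring
        _ = (q + 1) * (q * (q - 1)) := hn
        _ = (q + 1) * ((16 * 2 ^ t) * (q - 1)) := by rw [← hq]
        _ = _ := by ring
    omega
  · set r := 4 * 2 ^ t with hr
    have hr2 : 2 ∣ r := Dvd.intro (2 * 2 ^ t) (by ring)
    have hrs : r = 2 ^ (t + 2) := by rw [hr, pow_add]; ring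
    have h3 : 15 * n = r * ((q - 1) * (q + 1)) := by
      have h3 : 4 * (15 * n) = 4 * (r * ((q - 1) * (q + 1))) := by
        calc 4 * (15 * n) = 60 * n := by ring
          _ = (q + 1) * (q * (q - 1)) := hn
          _ = (q + 1) * ((16 * 2 ^ t) * (q - 1)) := by rw [← hq]
          _ = _ := by rw [hr]; ring
      omega
    have key : ∀ p : ℕ, p.Prime → p ≠ 2 → p ∣ 15 → p ∣ q - 1 ∨ p ∣ q + 1 := by
      intro p hp hp2 hp15
      have h4 : p ∣ r * ((q - 1) * (q + 1)) := by rw [← h3]; exact hp15.mul_right _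
      rcases (Nat.Prime.dvd_mul hp).1 h4 with h5 | h5
      · rw [hrs] at h5
        exact absurd h5 (hcop p hp hp2 _)
      · exact (Nat.Prime.dvd_mul hp).1 h5
    have hc : Nat.Coprime 3 5 := by norm_num
    rcases key 3 Nat.prime_three (by norm_num) (by norm_num) with h4 | h4 <;>
      rcases key 5 Nat.prime_five (by norm_num) (by norm_num) with h5 | h5
    · exact Or.inl (ar5 h16 hr2 h3 (hc.mul_dvd_of_dvd_of_dvd h4 h5))
    · exact ar4 (c := 3) (c' := 5) h16 hr2 h3 h4 h5 (by omega) (by omega)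
    · exact ar4 (c := 5) (c' := 3) h16 hr2 h3 h5 h4 (by omega) (by omega)
    · exact Or.inr (Or.inl (ar6 h16 hr2 h3 (hc.mul_dvd_of_dvd_of_dvd h4 h5)))

theorem ar_sub {q k j n f : ℕ} (hq2 : q = 2 ^ f) (h16 : 16 ≤ q) (hkj : k ^ j = q)
    (hn : (k + 1) * (k * (k - 1)) * n = (q + 1) * (q * (q - 1))) (h2 : 2 ∣ n) : Alt q n := by
  have hj0 : j ≠ 0 := by
    rintro rfl
    rw [pow_zero] at hkj
    omega
  have hk1 : 1 < k := by
    by_contra h
    have h1 : k = 0 ∨ k = 1 := by omega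
    rcases h1 with rfl | rfl
    · rw [zero_pow hj0] at hkj; omega
    · rw [one_pow] at hkj; omega
  have hpos : 0 < (k + 1) * (k * (k - 1)) := Nat.mul_pos (by omega) (Nat.mul_pos (by omega) (by omega))
  have hj1 : j ≠ 1 := by
    rintro rfl
    rw [pow_one] at hkj
    subst hkj
    have h3 : (k + 1) * (k * (k - 1)) * n = (k + 1) * (k * (k - 1)) * 1 := by rw [hn, mul_one]
    have h4 := Nat.eq_of_mul_eq_mul_left hpos h3
    omega
  obtain ⟨i, rfl⟩ : ∃ i, j = i + 2 := ⟨j - 2, by omega⟩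
  have hk2 : 2 ∣ k := by
    have h3 : 2 ∣ k ^ (i + 2) := by
      rw [hkj, hq2]
      refine dvd_pow_self 2 ?_
      rintro rfl
      rw [pow_zero] at hq2
      omega
    exact Nat.prime_two.dvd_of_dvd_pow h3
  have hqk : q = k * k ^ (i + 1) := by rw [← hkj, pow_succ' k (i + 1)]
  have hr : 2 ∣ k ^ (i + 1) := dvd_pow hk2 (by omega)
  have h3 : ((k - 1) * (k + 1)) * n = k ^ (i + 1) * ((q - 1) * (q + 1)) := by
    have h4 : k * (((k - 1) * (k + 1)) * n) = k * (k ^ (i + 1) * ((q - 1) * (q + 1))) := by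
      calc k * (((k - 1) * (k + 1)) * n) = (k + 1) * (k * (k - 1)) * n := by ring
        _ = (q + 1) * (q * (q - 1)) := hn
        _ = (q + 1) * ((k * k ^ (i + 1)) * (q - 1)) := by rw [← hqk]
        _ = _ := by ring
    exact Nat.eq_of_mul_eq_mul_left (by omega) h4
  rcases Nat.even_or_odd (i + 2) with he | ho
  · -- `k ^ 2 - 1` divides `q - 1`
    obtain ⟨s, hs⟩ := he
    have h4 : k ^ 2 - 1 ∣ q - 1 := by
      have h5 : q = (k ^ 2) ^ s := by rw [← hkj, hs, ← pow_mul]; congr 1; ring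
      rw [h5]
      exact Nat.sub_one_dvd_pow_sub_one _ _
    have h6 : k ^ 2 - 1 = (k - 1) * (k + 1) := by
      have := Nat.sq_sub_sq k 1
      rw [one_pow] at this
      rw [this, mul_comm]
    rw [h6] at h4
    exact Or.inl (ar5 h16 hr h3 h4)
  · have h4 : k - 1 ∣ q - 1 := by
      rw [← hkj]
      exact Nat.sub_one_dvd_pow_sub_one _ _
    have h5 : k + 1 ∣ q + 1 := by
      rw [← hkj]
      have := Odd.nat_add_dvd_pow_add_pow k 1 ho
      rwa [one_pow] at this
    have h6 : k < q := by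
      rw [hqk]
      have h7 : 1 < k ^ (i + 1) := Nat.one_lt_pow (by omega) hk1
      exact (Nat.lt_mul_iff_one_lt_right (by omega)).2 h7
    exact ar4 h16 hr h3 h4 h5 (by omega) (by omega)

section Index

variable {F : Type} [Field F] [Fintype F] (heven : Even (Fintype.card F))

include heven in
theorem card_psl : Nat.card (ProjectiveSpecialLinearGroup (Fin 2) F) =
    (Fintype.card F + 1) * (Fintype.card F * (Fintype.card F - 1)) :=
  (frame (MulEquiv.refl _)).card_even heven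

include heven in
/-- **Subgroups of even index.** -/
theorem index_even (h16 : 16 ≤ Fintype.card F) (H : Subgroup (ProjectiveSpecialLinearGroup (Fin 2) F))
    (h2 : 2 ∣ H.index) : Alt (Fintype.card F) H.index := by
  classical
  obtain ⟨p, hchar⟩ := CharP.exists F
  obtain ⟨f, hp, hqf⟩ := FiniteField.card F p
  have hp2 : p = 2 := by
    have h1 : 2 ∣ p ^ (f : ℕ) := by rw [← hqf, ← even_iff_two_dvd]; exact heven
    exact ((Nat.prime_dvd_prime_iff_eq Nat.prime_two hp).1 (Nat.prime_two.dvd_of_dvd_pow h1)).symm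
  subst hp2
  have : Fact (Nat.Prime 2) := ⟨hp⟩
  set q := Fintype.card F with hq
  have hn : Nat.card H * H.index = (q + 1) * (q * (q - 1)) := by
    rw [H.card_mul_index, card_psl heven]
  obtain ⟨t, ht⟩ := exists_sixteen hqf h16
  have h4 : 4 ∣ q := by rw [ht]; exact Dvd.intro (4 * 2 ^ t) (by ring)
  have hg : Nat.gcd 2 (q - 1) = 1 := by
    rw [← Nat.coprime_iff_gcd_eq_one, Nat.coprime_two_left, Nat.odd_iff]
    rw [Nat.even_iff] at heven
    omega
  rcases Cfsg.Agent.S0799.result (F := F) (q := q) rfl 2 H with ⟨k, hk, hH⟩ | ⟨P, K, hK, ⟨e⟩⟩ | ⟨⟨e⟩⟩ | ⟨⟨e⟩⟩ |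
    ⟨⟨e⟩⟩ | ⟨K, _, _, j, hj, hH⟩
  · rw [hg, Nat.div_one, Nat.div_one] at hk
    have hc : Nat.card H ∣ 2 * k := by
      rcases hH with ⟨-, h⟩ | ⟨⟨e⟩⟩
      · rw [h]; exact Dvd.intro_left _ rfl
      · rw [Nat.card_congr e.toEquiv, DihedralGroup.nat_card]
    rcases hk with hk | hk
    · exact Or.inr (Or.inl (ar1 h16 hn h4 (hc.trans (Nat.mul_dvd_mul_left 2 hk))))
    · exact Or.inl (ar2 h16 hn h4 (hc.trans (Nat.mul_dvd_mul_left 2 hk)))
  · refine Or.inl (ar3 h16 hn heven ?_ h2)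
    rw [Nat.card_congr e.toEquiv]
    refine (Subgroup.card_dvd_of_le hK).trans ?_
    have hsimp : IsSimpleGroup (ProjectiveSpecialLinearGroup (Fin 2) F) :=
      Matrix.ProjectiveSpecialLinearGroup.rank_two_simple
        (by rw [Nat.card_eq_fintype_card]; omega)
    set N := Subgroup.normalizer ((P : Subgroup (ProjectiveSpecialLinearGroup (Fin 2) F)) :
      Set (ProjectiveSpecialLinearGroup (Fin 2) F)) with hN
    have hPi : ¬ 2 ∣ (P : Subgroup (ProjectiveSpecialLinearGroup (Fin 2) F)).index := P.not_dvd_index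
    have hodd : ¬ 2 ∣ N.index := fun h => hPi (h.trans (Subgroup.index_dvd_of_le Subgroup.le_normalizer))
    have hcS := card_psl (F := F) heven
    rw [← hq] at hcS
    have hne : N ≠ ⊤ := by
      intro h
      have hPn : (P : Subgroup (ProjectiveSpecialLinearGroup (Fin 2) F)).Normal :=
        Subgroup.normalizer_eq_top_iff.1 h
      rcases hPn.eq_bot_or_eq_top with h3 | h3
      · rw [h3, Subgroup.index_bot, hcS] at hPi
        exact hPi (((even_iff_two_dvd.1 heven).mul_right _).mul_left _)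
      · have h5 : IsPGroup 2 (P : Subgroup (ProjectiveSpecialLinearGroup (Fin 2) F)) := P.2
        rw [h3] at h5
        obtain ⟨m, hm⟩ := IsPGroup.iff_card.1 h5
        rw [Nat.card_congr Subgroup.topEquiv.toEquiv, hcS] at hm
        have h6 : (q + 1).minFac ∣ 2 ^ m := by
          rw [← hm]
          exact (Nat.minFac_dvd _).mul_right _
        have hpr : (q + 1).minFac.Prime := Nat.minFac_prime (by omega)
        have h7 := (Nat.prime_dvd_prime_iff_eq hpr Nat.prime_two).1 (hpr.dvd_of_dvd_pow h6)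
        have h8 := Nat.minFac_dvd (q + 1)
        rw [h7] at h8
        omega
    obtain ⟨w, hw⟩ := (Cfsg.Agent.H671.Sep.odd_index' (frame (MulEquiv.refl
      (ProjectiveSpecialLinearGroup (Fin 2) F))) N (by omega) heven hodd hne).1
    rw [← hq] at hw
    have h5 := N.card_mul_index
    rw [hw, hcS] at h5
    have h6 : (q + 1) * (Nat.card N * w) = (q + 1) * (q * (q - 1)) := by rw [← h5]; ring
    exact ⟨w, (Nat.eq_of_mul_eq_mul_left (by omega) h6).symm⟩
  · refine ar_small ht hn (Or.inl ?_)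
    rw [Nat.card_congr e.toEquiv, nat_card_alternatingGroup, Nat.card_fin]
    rfl
  · refine ar_small ht hn (Or.inr (Or.inl ?_))
    rw [Nat.card_congr e.toEquiv, Nat.card_perm, Nat.card_fin]
    rfl
  · refine ar_small ht hn (Or.inr (Or.inr ?_))
    rw [Nat.card_congr e.toEquiv, nat_card_alternatingGroup, Nat.card_fin]
    rfl
  · refine ar_sub hqf h16 hj ?_ h2
    have hkeven : Even (Fintype.card K) := by
      by_contra h
      rw [Nat.not_even_iff_odd] at h
      have h3 : Odd q := by rw [← hj]; exact h.pow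
      exact (Nat.not_even_iff_odd.2 h3) heven
    rw [← hn]
    congr 1
    rcases hH with ⟨⟨e⟩⟩ | ⟨⟨e⟩⟩
    · rw [Nat.card_congr e.toEquiv, card_psl hkeven]
    · rw [Nat.card_congr e.toEquiv, Cfsg.Agent.S0265.result, card_SL]

end Index

end Cfsg.Agent.H248.Reg
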