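import Cfsg.Agent.H670.Reg.Defs
import Cfsg.Agent.H714.Tri.Cen
import Cfsg.Agent.H248.Reg.Borel
import Cfsg.Agent.H248.Reg.Dickson

/-!
# Ratios of degrees above `PSL(2, q)`, `q ≥ 16` even (S4919, EVEN, helper248)

`factEven` : `X / M ≅ PSL(2, q)`, `θ ∈ Irr(M)`: either `θ` extends to `X` or some ratio `χ(1) / θ(1)` is divisible by
`q ^ 2 - 1`, `2 (q + 1)`, `2 (q - 1)` or by two and a prime of each of `q - 1`, `q + 1`.
-/

set_option autoImplicit false

namespace Cfsg.Agent.H248.Reg

open Cfsg Cfsg.Agent.Characters.Core Cfsg.Agent.H681.DegBasic Cfsg.Agent.H525.L2 Cfsg.Agent.H595.Count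
  Cfsg.Agent.H595.Central Cfsg.Agent.H595.Triple Matrix Cfsg.Agent.H670.RankOne Cfsg.Agent.H670.SL2

universe u v

section

variable {X : Type u} [Group X] [Finite X] (M : Subgroup X) [hM : M.Normal] {F : Type} [Field F]
  [Fintype F] (h16 : 16 ≤ Fintype.card F) (heven : Even (Fintype.card F))
  (e : X ⧸ M ≃* Matrix.ProjectiveSpecialLinearGroup (Fin 2) F) [Fintype M] (θ : IrrCharacter M)

omit [Fintype M] in
include h16 heven e in
/-- The invariant case. -/
theorem inv_even (hinv : CInv M (θ : M → ℂ)) :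
    ∃ χ : IrrCharacter X, ∀ m : M, (χ : X → ℂ) m = (θ : M → ℂ) m := by
  classical
  obtain ⟨Q, hg, hfin, π, l, hs, hc, hl, H⟩ := exists_red M θ hinv
  obtain ⟨lam, hlam⟩ := Cfsg.Agent.H714.Tri.exists_lin_of_split heven (by omega) π hs hc e l
  obtain ⟨χ0, hχ0⟩ := H (homIrr lam) (over_of_linear hlam)
  refine ⟨χ0, fun n => ?_⟩
  rw [hχ0 n, homIrr_apply, map_one, Units.val_one, one_mul]

include h16 heven e in
/-- The case of a proper inertia group. -/
theorem proper_even (hT1 : Cfsg.Agent.H672.inertia M (θ : M → ℂ) ≠ ⊤) :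
    ∃ χ : IrrCharacter X, classInner (fun m : M => (χ : X → ℂ) m) (θ : M → ℂ) ≠ 0 ∧
      ∃ d : ℕ, charDegree (χ : X → ℂ) = d * charDegree (θ : M → ℂ) ∧
        (Fintype.card F ^ 2 - 1 ∣ d ∨ Alt (Fintype.card F) d) := by
  classical
  have hsimp : IsSimpleGroup (Matrix.ProjectiveSpecialLinearGroup (Fin 2) F) :=
    Matrix.ProjectiveSpecialLinearGroup.rank_two_simple
      (by rw [Nat.card_eq_fintype_card]; omega)
  have hsimp' : IsSimpleGroup (X ⧸ M) := e.isSimpleGroup
  have := Fintype.ofFinite X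
  set q := Fintype.card F with hq
  set T := Cfsg.Agent.H672.inertia M (θ : M → ℂ) with hTdef
  have := Fintype.ofFinite T
  have hT : ∀ g : X, g ∈ T ↔ ∀ n : M, (θ : M → ℂ) ⟨g * n * g⁻¹, hM.conj_mem (n : X) n.2 g⟩ =
      (θ : M → ℂ) n := fun g => Cfsg.Agent.H672.mem_inertia_iff
  have hMT : M ≤ T := Cfsg.Agent.H672.le_inertia (isIrr_isClassFunction θ.2)
  let N : Subgroup T := M.subgroupOf T
  let eN : N ≃* M := Subgroup.subgroupOfEquivOfLe hMT
  let θ' : IrrCharacter N := ⟨(θ : M → ℂ) ∘ eN, isIrr_comp eN.toMonoidHom eN.surjective θ.2⟩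
  have hinv : CInv N (θ' : N → ℂ) := by
    intro x n
    exact (hT x).1 x.2 (eN n)
  obtain ⟨Q, hg, hfin, π, l, hs, hc, hl, H⟩ := exists_red N θ' hinv
  -- it is enough to find a good degree over `l`
  suffices hgood : ∃ β : IrrCharacter Q, Over π l (β : Q → ℂ) ∧
      (q ^ 2 - 1 ∣ T.index * charDegree (β : Q → ℂ) ∨ Alt q (T.index * charDegree (β : Q → ℂ))) by
    obtain ⟨β, hβ, hgood⟩ := hgood
    obtain ⟨ψ, hψ⟩ := H β hβ
    have hψ' : ∀ m : M, (ψ : T → ℂ) ⟨m, hMT m.2⟩ =
        (charDegree (β : Q → ℂ) : ℂ) * (θ : M → ℂ) m := by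
      intro m
      have := hψ ⟨⟨m, hMT m.2⟩, m.2⟩
      rw [(deg_spec β.2).1] at this
      exact this
    obtain ⟨h1, h2, h3⟩ := over_ind M θ.2 T hT hMT ψ.2 (deg_spec β.2).2.ne' hψ'
    refine ⟨⟨_, h1⟩, h3, T.index * charDegree (β : Q → ℂ), ?_, hgood⟩
    have h4 := hψ' 1
    have h5 : (⟨((1 : M) : X), hMT (1 : M).2⟩ : T) = 1 := rfl
    rw [h5, (deg_spec θ.2).1] at h4
    rw [h4, (deg_spec h1).1] at h2
    have h6 : charDegree (indFun T (ψ : T → ℂ)) =
        T.index * (charDegree (β : Q → ℂ) * charDegree (θ : M → ℂ)) := by exact_mod_cast h2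
    rw [mul_assoc]
    exact h6
  -- the image in the quotient
  let ι : T ⧸ N →* X ⧸ M := QuotientGroup.map N M T.subtype (fun x hx => hx)
  have hι : Function.Injective ι := by
    rw [injective_iff_map_eq_one]
    intro y hy
    obtain ⟨t, rfl⟩ := QuotientGroup.mk_surjective y
    have h1 : ((t : X) : X ⧸ M) = 1 := hy
    have h2 : (t : X) ∈ M := (QuotientGroup.eq_one_iff (t : X)).1 h1
    exact (QuotientGroup.eq_one_iff t).2 h2
  have hHi : ι.range.index = T.index := by
    have h1 : ι.range.comap (QuotientGroup.mk' M) = T := by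
      ext x
      constructor
      · rintro ⟨y, hy⟩
        obtain ⟨t, rfl⟩ := QuotientGroup.mk_surjective y
        have h2 : ((t : X) : X ⧸ M) = (x : X ⧸ M) := hy
        have h3 := QuotientGroup.eq.1 h2
        have h4 := T.mul_mem t.2 (hMT h3)
        rwa [mul_inv_cancel_left] at h4
      · intro hx
        exact ⟨((⟨x, hx⟩ : T) : T ⧸ N), rfl⟩
    rw [← Subgroup.index_comap_of_surjective ι.range (QuotientGroup.mk'_surjective M), h1]
  have hTi : T.index ≠ 1 := fun h => hT1 (Subgroup.index_eq_one.1 h)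
  have hHne : ι.range ≠ ⊤ := by
    intro h
    rw [h, Subgroup.index_top] at hHi
    exact hTi hHi.symm
  obtain ⟨β1, hβ1⟩ := exists_over l hs hc
  by_cases h2 : 2 ∣ T.index
  · -- even index: the list of subgroups
    have hHe : (ι.range.map e.toMonoidHom).index = T.index := by
      rw [← hHi]
      exact Subgroup.index_map_equiv _ e
    have h3 := index_even heven h16 (ι.range.map e.toMonoidHom) (by rw [hHe]; exact h2)
    rw [hHe] at h3
    exact ⟨β1, hβ1, Or.inr (h3.mono (Dvd.intro _ rfl))⟩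
  · have hq1 := (Cfsg.Agent.H671.Sep.odd_index' (frame e) ι.range (by omega) heven (by rwa [hHi]) hHne).1
    rw [hHi, ← hq] at hq1
    by_cases hodd : ∃ β : IrrCharacter Q, Over π l (β : Q → ℂ) ∧ ¬ 2 ∣ charDegree (β : Q → ℂ)
    · obtain ⟨β, hβ, hβ2⟩ := hodd
      let D := frame e
      let E : SpecialLinearGroup (Fin 2) F ≃* X ⧸ M := MulEquiv.ofBijective D.f ⟨D.f_inj heven, D.surj⟩
      have hE : ∀ z, E z = D.f z := fun _ => rfl
      have hKi : (ι.range.comap D.f).index = T.index := by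
        rw [Subgroup.index_comap_of_surjective _ D.surj, hHi]
      obtain ⟨g, hg1, hg2⟩ := exists_conj heven (ι.range.comap D.f) (by rw [hKi]; exact h2) (by
        intro h
        rw [h, Subgroup.index_top] at hKi
        exact hTi hKi.symm)
      let φ : Q →* SpecialLinearGroup (Fin 2) F :=
        ((MulAut.conj g).toMonoidHom.comp E.symm.toMonoidHom).comp (ι.comp π)
      have hφ : ∀ a, φ a = g * E.symm (ι (π a)) * g⁻¹ := fun _ => rfl
      have hker : φ.ker = π.ker := by
        ext a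
        rw [MonoidHom.mem_ker, MonoidHom.mem_ker, hφ]
        constructor
        · intro h
          rw [mul_inv_eq_one, mul_eq_left, map_eq_one_iff _ E.symm.injective, map_eq_one_iff _ hι] at h
          exact h
        · intro h
          rw [h, map_one, map_one, mul_one, mul_inv_cancel]
      have hrange : φ.range = (ι.range.comap D.f).comap (MulAut.conj g⁻¹).toMonoidHom := by
        ext z
        constructor
        · rintro ⟨a, rfl⟩
          refine ⟨π a, ?_⟩
          show ι (π a) = D.f (g⁻¹ * φ a * g⁻¹⁻¹)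
          have h3 : g⁻¹ * φ a * g⁻¹⁻¹ = E.symm (ι (π a)) := by rw [hφ]; group
          rw [h3, ← hE, E.apply_symm_apply]
        · rintro ⟨y, hy⟩
          obtain ⟨a, rfl⟩ := hs y
          refine ⟨a, ?_⟩
          have hy' : ι (π a) = E (g⁻¹ * z * g⁻¹⁻¹) := hy
          rw [hφ, hy', E.symm_apply_apply]
          group
      obtain ⟨γ, hγ, hγd⟩ := borel_case heven hc hl φ hker (by rw [hrange]; exact hg1)
        (by rw [hrange]; exact hg2) β.2 hβ (deg_spec β.2).1 hβ2
      refine ⟨γ, hγ, Or.inl ?_⟩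
      have hcr : Nat.card φ.range = Nat.card ι.range := by
        rw [← Subgroup.index_ker, hker, Subgroup.index_ker, MonoidHom.range_eq_top.2 hs,
          Nat.card_congr Subgroup.topEquiv.toEquiv]
        exact Nat.card_congr (MonoidHom.ofInjective hι).toEquiv
      rw [hcr, ← hq] at hγd
      have hmul := ι.range.card_mul_index
      rw [hHi, ← hγd, (frame e).card_even heven, ← hq] at hmul
      have h3 : q * (T.index * charDegree (γ : Q → ℂ)) = q * ((q + 1) * (q - 1)) := by
        calc q * (T.index * charDegree (γ : Q → ℂ)) = charDegree (γ : Q → ℂ) * q * T.index := by ring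
          _ = (q + 1) * (q * (q - 1)) := hmul
          _ = _ := by ring
      have h5 := Nat.sq_sub_sq q 1
      rw [one_pow] at h5
      rw [Nat.eq_of_mul_eq_mul_left (by omega) h3, h5]
    · push Not at hodd
      refine ⟨β1, hβ1, Or.inr (Or.inl ?_)⟩
      rw [mul_comm 2]
      exact Nat.mul_dvd_mul hq1 (hodd β1 hβ1)

end

theorem factEven : Cfsg.Agent.H670.Reg.FactEven.{u} := by
  intro X _ _ M _ _ F _ _ heven h16 e θ
  by_cases hT : Cfsg.Agent.H672.inertia M (θ : M → ℂ) = ⊤
  · left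
    refine inv_even M h16 heven e θ ?_
    intro x n
    have : x ∈ Cfsg.Agent.H672.inertia M (θ : M → ℂ) := by rw [hT]; trivial
    exact Cfsg.Agent.H672.mem_inertia_iff.1 this n
  · right
    exact proper_even M h16 heven e θ hT

end Cfsg.Agent.H248.Reg
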