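import Cfsg.Agent.H671.Sep
import Mathlib.GroupTheory.FiniteAbelian.Duality
import Mathlib.RingTheory.RootsOfUnity.EnoughRootsOfUnity

/-!
# A linear character of an abelian normal subgroup with trivial stabiliser (S4919, EVEN, helper248)

`exists_free` : `V ⊴ Q` abelian, `Z ≤ V` central, elements outside `V` act without fixed points on `V / Z`,
`|Q : V| ≤ |V : Z|`: every linear character of `Z` extends to a linear character of `V` moved by every element outside `V`.
`exists_irr_index` : hence there is an irreducible character of `Q` of degree `|Q : V|` over it.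
-/

set_option autoImplicit false

namespace Cfsg.Agent.H248.Reg

open Cfsg Cfsg.Agent.Characters.Core Cfsg.Agent.H681.DegBasic Cfsg.Agent.H525.L2 Cfsg.Agent.H595.Count
  Cfsg.Agent.H595.Central Cfsg.Agent.H595.Triple

universe u v

theorem exists_free {Q : Type u} [Group Q] [Finite Q] (V : Subgroup Q) [hVn : V.Normal] (Z : Subgroup Q)
    (hZ : Z ≤ Subgroup.center Q) (hZV : Z ≤ V) (hV : ∀ x ∈ V, ∀ y ∈ V, x * y = y * x)
    (hfree : ∀ a, a ∉ V → ∀ v ∈ V, a * v * a⁻¹ * v⁻¹ ∈ Z → v ∈ Z)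
    (hcard : V.index ≤ Z.relIndex V) (l : Z →* ℂˣ) :
    ∃ lam : V →* ℂˣ, (∀ z : Z, lam ⟨z, hZV z.2⟩ = l z) ∧
      ∀ a : Q, (∀ v : V, lam ⟨a * v * a⁻¹, hVn.conj_mem v v.2 a⟩ = lam v) → a ∈ V := by
  classical
  let _ : CommGroup V := { (inferInstance : Group V) with
    mul_comm := fun a b => Subtype.ext (hV a a.2 b b.2) }
  let W : Subgroup V := Z.subgroupOf V
  let eW : W ≃* Z := Subgroup.subgroupOfEquivOfLe hZV
  obtain ⟨lam0, h0⟩ := MonoidHom.domRestrict_surjective (M := ℂ) W (l.comp eW.toMonoidHom)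
  have h0' : ∀ z : Z, lam0 ⟨z, hZV z.2⟩ = l z := by
    intro z
    have h1 := DFunLike.congr_fun h0 (eW.symm z)
    have h2 : l.comp eW.toMonoidHom (eW.symm z) = l z := by
      show l (eW (eW.symm z)) = l z
      rw [eW.apply_symm_apply]
    rw [h2] at h1
    exact h1
  by_contra hcon
  push Not at hcon
  let K := (MonoidHom.domRestrictHom W ℂˣ).ker
  have hK : Nat.card K = Z.relIndex V := CommGroup.card_domRestrictHom_ker (M := ℂ) W
  have hKW : ∀ (ν : K) (w : V), (w : Q) ∈ Z → (ν : V →* ℂˣ) w = 1 := by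
    intro ν w hw
    exact DFunLike.congr_fun (MonoidHom.mem_ker.1 ν.2) (⟨w, hw⟩ : W)
  have hex : ∀ ν : K, ∃ a : Q, (∀ v : V, (lam0 * ν) ⟨a * v * a⁻¹, hVn.conj_mem v v.2 a⟩ = (lam0 * ν) v) ∧
      a ∉ V := by
    intro ν
    refine hcon (lam0 * ν) fun z => ?_
    rw [MonoidHom.mul_apply, h0', hKW ν _ z.2, mul_one]
  choose a ha haV using hex
  have hinj : Function.Injective fun ν : K => ((a ν : Q) : Q ⧸ V) := by
    intro ν ν' h
    have h1 : (a ν)⁻¹ * a ν' ∈ V := QuotientGroup.eq.1 h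
    obtain ⟨w, hw, hw'⟩ : ∃ w ∈ V, a ν' = a ν * w := ⟨_, h1, by rw [mul_inv_cancel_left]⟩
    -- `a ν` fixes the second character
    have h2 : ∀ v : V, (lam0 * ν') ⟨a ν * v * (a ν)⁻¹, hVn.conj_mem v v.2 (a ν)⟩ = (lam0 * ν') v := by
      intro v
      rw [← ha ν' v]
      congr 1
      apply Subtype.ext
      show a ν * v * (a ν)⁻¹ = a ν' * v * (a ν')⁻¹
      rw [hw']
      have h3 := hV w hw v v.2
      calc a ν * (v : Q) * (a ν)⁻¹ = a ν * (v * w) * w⁻¹ * (a ν)⁻¹ := by group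
        _ = a ν * (w * v) * w⁻¹ * (a ν)⁻¹ := by rw [h3]
        _ = _ := by group
    -- the difference
    let ψ : V →* V := 
      { toFun := fun v => ⟨a ν * v * (a ν)⁻¹ * (v : Q)⁻¹, V.mul_mem (hVn.conj_mem v v.2 (a ν)) (V.inv_mem v.2)⟩
        map_one' := by
          apply Subtype.ext
          show a ν * 1 * (a ν)⁻¹ * 1⁻¹ = 1
          group
        map_mul' := by
          intro v w
          apply Subtype.ext
          show a ν * ((v : Q) * w) * (a ν)⁻¹ * ((v : Q) * w)⁻¹ =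
            (a ν * v * (a ν)⁻¹ * (v : Q)⁻¹) * (a ν * w * (a ν)⁻¹ * (w : Q)⁻¹)
          have h3 := hV _ (V.mul_mem (hVn.conj_mem w w.2 (a ν)) (V.inv_mem w.2)) (v : Q)⁻¹ (V.inv_mem v.2)
          calc a ν * ((v : Q) * w) * (a ν)⁻¹ * ((v : Q) * w)⁻¹
              = (a ν * v * (a ν)⁻¹) * ((a ν * w * (a ν)⁻¹ * (w : Q)⁻¹) * (v : Q)⁻¹) := by group
            _ = (a ν * v * (a ν)⁻¹) * ((v : Q)⁻¹ * (a ν * w * (a ν)⁻¹ * (w : Q)⁻¹)) := by rw [h3]
            _ = _ := by group }
    have hψ : ∀ v : V, ψ v = ⟨a ν * v * (a ν)⁻¹ * (v : Q)⁻¹,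
      V.mul_mem (hVn.conj_mem v v.2 (a ν)) (V.inv_mem v.2)⟩ := fun _ => rfl
    let ψ' : V →* V ⧸ W := (QuotientGroup.mk' W).comp ψ
    have hker : ψ'.ker = W := by
      ext v
      rw [MonoidHom.mem_ker]
      constructor
      · intro hv
        have h3 : ψ v ∈ W := (QuotientGroup.eq_one_iff _).1 hv
        exact hfree _ (haV ν) v v.2 h3
      · intro hv
        refine (QuotientGroup.eq_one_iff _).2 ?_
        have h3 : ψ v = 1 := by
          apply Subtype.ext
          show a ν * v * (a ν)⁻¹ * (v : Q)⁻¹ = 1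
          have h4 : a ν * (v : Q) = v * a ν := Subgroup.mem_center_iff.1 (hZ hv) (a ν)
          rw [h4, mul_inv_cancel_right, mul_inv_cancel]
        rw [h3]
        exact W.one_mem
    have hsurj : Function.Surjective ψ' := by
      have h3 : Nat.card ψ'.range = Nat.card (V ⧸ W) := by
        rw [← Subgroup.index_ker, hker]
        rfl
      exact MonoidHom.range_eq_top.1 (Subgroup.eq_top_of_card_eq _ h3)
    apply Subtype.ext
    ext v
    obtain ⟨w, hw2⟩ := hsurj (v : V ⧸ W)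
    have h3 : (ψ w)⁻¹ * v ∈ W := QuotientGroup.eq.1 hw2
    have h4 : ∀ κ : K, (κ : V →* ℂˣ) v = (κ : V →* ℂˣ) (ψ w) := by
      intro κ
      have h5 := hKW κ ((ψ w)⁻¹ * v) h3
      rw [map_mul, map_inv, inv_mul_eq_one] at h5
      exact h5.symm
    have h5 : ∀ κ : K, (∀ v : V, (lam0 * κ) ⟨a ν * v * (a ν)⁻¹, hVn.conj_mem v v.2 (a ν)⟩ = (lam0 * κ) v) →
        (κ : V →* ℂˣ) (ψ w) = (lam0 (ψ w))⁻¹ := by
      intro κ hκ
      have h6 := hκ w
      have h7 : (⟨a ν * w * (a ν)⁻¹, hVn.conj_mem w w.2 (a ν)⟩ : V) = ψ w * w := by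
        apply Subtype.ext
        show a ν * w * (a ν)⁻¹ = a ν * w * (a ν)⁻¹ * (w : Q)⁻¹ * w
        rw [inv_mul_cancel_right]
      rw [h7, map_mul] at h6
      have h8 : (lam0 * κ) (ψ w) = 1 := mul_eq_right.1 h6
      rw [MonoidHom.mul_apply] at h8
      exact eq_inv_of_mul_eq_one_right h8
    rw [h4 ν, h4 ν', h5 ν (ha ν), h5 ν' h2]
  have h1 : Nat.card (Q ⧸ V) = Nat.card K := by
    apply le_antisymm
    · rw [hK]; exact hcard
    · exact Nat.card_le_card_of_injective _ hinj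
  have h2 := (Nat.bijective_iff_injective_and_card _).2 ⟨hinj, h1.symm⟩
  obtain ⟨ν, hν⟩ := h2.2 1
  exact haV ν ((QuotientGroup.eq_one_iff _).1 hν)

/-- The irreducible character of degree `|Q : V|`. -/
theorem exists_irr_index {Q : Type u} {S : Type v} [Group Q] [Finite Q] [Group S] {π : Q →* S} (l : π.ker →* ℂˣ)
    (hc : π.ker ≤ Subgroup.center Q) (V : Subgroup Q) [hVn : V.Normal]
    (hZV : π.ker ≤ V) (hV : ∀ x ∈ V, ∀ y ∈ V, x * y = y * x)
    (hfree : ∀ a, a ∉ V → ∀ v ∈ V, a * v * a⁻¹ * v⁻¹ ∈ π.ker → v ∈ π.ker)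
    (hcard : V.index ≤ π.ker.relIndex V) :
    ∃ γ : IrrCharacter Q, Over π l (γ : Q → ℂ) ∧ charDegree (γ : Q → ℂ) = V.index := by
  classical
  have := Fintype.ofFinite Q
  have := Fintype.ofFinite V
  obtain ⟨lam, h1, h2⟩ := exists_free V π.ker hc hZV hV hfree hcard l
  obtain ⟨h3, h4, -⟩ := over_ind V (homIrr lam).2 V (fun g => by
    constructor
    · intro hg n
      have h5 : (⟨g * n * g⁻¹, hVn.conj_mem (n : Q) n.2 g⟩ : V) = n := by
        apply Subtype.ext
        show g * n * g⁻¹ = n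
        rw [hV g hg n n.2, mul_inv_cancel_right]
      rw [h5]
    · intro h
      apply h2
      intro v
      have h5 := h v
      rw [homIrr_apply, homIrr_apply] at h5
      exact Units.ext h5) le_rfl (homIrr lam).2 one_ne_zero (fun m => by
      rw [Nat.cast_one, one_mul])
  refine ⟨⟨_, h3⟩, ?_, ?_⟩
  · intro a z
    show indFun V _ (a * z) = indFun V _ a * l z
    rw [indFun_apply, indFun_apply, mul_assoc, Finset.sum_mul]
    congr 1
    refine Finset.sum_congr rfl fun x _ => ?_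
    have hz : x⁻¹ * (a * z) * x = (x⁻¹ * a * x) * z := by
      have h5 := Subgroup.mem_center_iff.1 (hc z.2) x
      calc x⁻¹ * (a * z) * x = x⁻¹ * a * (z * x) := by group
        _ = x⁻¹ * a * (x * z) := by rw [h5]
        _ = _ := by group
    rw [hz]
    by_cases hm : x⁻¹ * a * x ∈ V
    · rw [extendByZero_of_mem V _ hm, extendByZero_of_mem V _ (V.mul_mem hm (hZV z.2))]
      rw [homIrr_apply, homIrr_apply, ← h1 z, ← Units.val_mul, ← map_mul]
      rfl
    · have hm' : x⁻¹ * a * x * z ∉ V := fun h => hm (by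
        have := V.mul_mem h (V.inv_mem (hZV z.2))
        rwa [mul_inv_cancel_right] at this)
      rw [extendByZero_of_notMem V _ hm, extendByZero_of_notMem V _ hm', zero_mul]
  · rw [homIrr_apply, map_one, Units.val_one, mul_one] at h4
    have h5 := (deg_spec h3).1
    rw [h4] at h5
    exact_mod_cast h5.symm

end Cfsg.Agent.H248.Reg
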